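import Cfsg.Agent.H30.FiE.Net

/-!
# `peelB` of helper30 in several pieces (helper563, grading memory)
-/

set_option autoImplicit false

namespace Cfsg.Agent.H563.MS

open Cfsg Cfsg.Agent.Lib.PermNet Cfsg.Agent.Lib.PermNetPt Cfsg.Agent.Lib.PermNetOrbit
open Cfsg.Agent.H30.FiE

/-- the counts of `m` along the sets of the list; `m'` remains -/
noncomputable def peelC (k : ℕ) (l : List (ℕ × ℕ)) (m' : ℕ) : ℕ → Bool :=
  List.rec (motive := fun _ => ℕ → Bool) (fun m => Nat.beq m m')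
    (fun p _ ih m => seqB (Nat.land m p.1) fun y => and (Nat.beq (pc k y) p.2) (seqB (Nat.xor m y) ih)) l

theorem peelC_nil (k m' m : ℕ) : peelC k [] m' m = Nat.beq m m' := rfl

theorem peelC_cons (k : ℕ) (p : ℕ × ℕ) (l : List (ℕ × ℕ)) (m' m : ℕ) :
    peelC k (p :: l) m' m = (Nat.beq (pc k (m &&& p.1)) p.2 && peelC k l m' (m ^^^ (m &&& p.1))) := by
  show seqB (Nat.land m p.1) (fun y => and (Nat.beq (pc k y) p.2) (seqB (Nat.xor m y) (peelC k l m'))) = _
  rw [seqB_eq, seqB_eq]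
  rfl

theorem peelB_append {k : ℕ} {l₂ : List (ℕ × ℕ)} {m' : ℕ} (h₂ : peelB k l₂ m' = true) :
    ∀ {l₁ : List (ℕ × ℕ)} {m : ℕ}, peelC k l₁ m' m = true → peelB k (l₁ ++ l₂) m = true
  | [], m, h => by
    rw [peelC_nil] at h
    rw [List.nil_append, Nat.eq_of_beq_eq_true h]
    exact h₂
  | p :: l, m, h => by
    rw [peelC_cons, Bool.and_eq_true] at h
    rw [List.cons_append, peelB_cons, Bool.and_eq_true]
    exact ⟨h.1, peelB_append h₂ h.2⟩

end Cfsg.Agent.H563.MS
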